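import Cfsg.Agent.Mult.Slices
import Cfsg.Agent.G24C.CertT0
import Cfsg.Agent.G24C.CertT1

set_option autoImplicit false
set_option Elab.async false
set_option maxRecDepth 100000
set_option linter.all false

namespace Cfsg.Agent.G24C
open Cfsg.Agent.CGT

open Cfsg.Agent.Mult

noncomputable def c_l0 : Level := ⟨5, [[0], [2], [4], [6], [8], [10], [12], [14]], [0, 1, 2, 3, 4, 6, 7, 0, 1, 5, 2, 0, 4, 5, 0], 0x1fffffffffffffffffffffffffffffffffffffffffffffffffffffffffffffffffffffffffffffffffffffffffffffffffffffffffffffffffffffffffffffffffffffffffffffffffffffffffffffffffffffffffffffffffffffffffffffffffffffffffffffffffffffffffffffffffffffffffffffffffffffffffffffffffffffffffffffffffffffffffffffffffffffffffffffffffffffffffffffffffffffffffffffffffffff, 1365⟩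
noncomputable def c_l1 : Level := ⟨1, [[2], [4], [6], [8], [10], [12], [14]], [0, 1, 2, 3, 5, 6, 0, 1, 4, 3, 0, 1, 0], 0x1048104810480222904090409040222490049004900222000000000904090409040222490049004900223048104810480222001fffe001fffe001fffe490049004900223048104810480222904090409040222000000000223e223e223e2222222223e223e223e2222222223e223e223e2222222000000000904090409040222490049004900223048104810480222000000000000000000000223e223e223e222222200000000001ffe1e, 320⟩
noncomputable def c_l2 : Level := ⟨2, [[4], [6], [8], [10], [12], [14]], [0, 0], 0x1c, 3⟩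
noncomputable def c_l3 : Level := ⟨13, [[6], [8], [10], [12], [14]], [0, 0, 1, 2, 0], 0x1ffe00, 12⟩
noncomputable def c_l4 : Level := ⟨9, [[8], [10], [12], [14]], [0, 1], 0x1e00, 4⟩
noncomputable def c_l5 : Level := ⟨21, [[12], [14]], [0, 1], 0x1e00000, 4⟩
noncomputable def c_ls : List Level := [c_l0, c_l1, c_l2, c_l3, c_l4, c_l5]
theorem c_l0_ok : (ptsOK 11 [] && (wordsIn [0, 2, 4, 6, 8, 10, 12, 14] c_l0.S && c_l0.ok 11 m_ns m_ts [])) = true := by decide +kernel
theorem c_l1_ok : (ptsOK 11 [5] && (wordsIn [0, 2, 4, 6, 8, 10, 12, 14] c_l1.S && c_l1.ok 11 m_ns m_ts [5])) = true := by decide +kernel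
theorem c_l2_ok : (ptsOK 11 [1, 5] && (wordsIn [0, 2, 4, 6, 8, 10, 12, 14] c_l2.S && c_l2.ok 11 m_ns m_ts [1, 5])) = true := by decide +kernel
theorem c_l3_ok : (ptsOK 11 [2, 1, 5] && (wordsIn [0, 2, 4, 6, 8, 10, 12, 14] c_l3.S && c_l3.ok 11 m_ns m_ts [2, 1, 5])) = true := by decide +kernel
theorem c_l4_ok : (ptsOK 11 [13, 2, 1, 5] && (wordsIn [0, 2, 4, 6, 8, 10, 12, 14] c_l4.S && c_l4.ok 11 m_ns m_ts [13, 2, 1, 5])) = true := by decide +kernel
theorem c_l5_ok : (ptsOK 11 [9, 13, 2, 1, 5] && (wordsIn [0, 2, 4, 6, 8, 10, 12, 14] c_l5.S && c_l5.ok 11 m_ns m_ts [9, 13, 2, 1, 5])) = true := by decide +kernel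
theorem c_sound {G : Type*} [Group G] {φ : G →* Equiv.Perm ℕ} {γ : ℕ → G}
    (M : Model φ γ 11 m_ns m_ts) : ChainSound φ (gp γ [0, 2, 4, 6, 8, 10, 12, 14]) 11 [] c_ls :=
  ⟨Level.ok_sound' M c_l0_ok,
   Level.ok_sound' M c_l1_ok,
   Level.ok_sound' M c_l2_ok,
   Level.ok_sound' M c_l3_ok,
   Level.ok_sound' M c_l4_ok,
   Level.ok_sound' M c_l5_ok, trivial⟩
theorem cert {F : Type*} [Field F] [Fintype F] (hF : Fintype.card F = 4) (ψ : K4 ≃+* F) :
    ∃ (γ : ℕ → Cfsg.Lie.chevG2.group F) (φ : _), CGT.Cert φ γ 11 m_ns m_ts [0, 2, 4, 6, 8, 10, 12, 14] c_ls ∧ Holds (ext γ) qRR :=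
  Co.Base.cert (C := stdCo kf4 ix ψ.toRingHom) (chev_base Chev.certG2 ψ (Es := Es) (by decide +kernel) rfl h_base) h_der h_gen (scal_std h_sc) h_len
    (uniq_lead h_len h_red h_lead) m_v h_fix (by decide +kernel)
    (fun j hj => by
    change j < 8 at hj
    interval_cases j
    exacts [h_a0, h_a1, h_a2, h_a3, h_a4, h_a5, h_a6, h_a7]) m_ts_ok (fun _ _ M => c_sound M) (allL_iff.1 h_r0) (fun _ h => qbd0 h) (by decide +kernel)

end Cfsg.Agent.G24C
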